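import Cfsg.Agent.Lib.Coprime.Action
import Cfsg.Agent.Lib.Transfer.Frobenius
import Cfsg.Agent.Lib.Golay.SylowTwoSimple

/-!
# Two-groups in which real elements are central in the whole group

If every element of a `2`-subgroup that is inverted inside that subgroup is central in `G`, then
every element of odd order normalizing a `2`-subgroup centralizes it, so `G` has a normal
`2`-complement.
-/

set_option autoImplicit false
set_option linter.style.haveILetI false

open scoped commutatorElement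

namespace CfsgLib.RealTwoLocal

variable {G : Type*} [Group G] [Finite G]

theorem centralizes_of_real_central
    (hc : ∀ U : Subgroup G, IsPGroup 2 U → ∀ u ∈ U, ∀ v ∈ U, v * u * v⁻¹ = u⁻¹ →
      u ∈ Subgroup.center G)
    (g : G) (hg : (orderOf g).Coprime 2) :
    ∀ (U : Subgroup G), IsPGroup 2 U → g ∈ Subgroup.normalizer (U : Set G) →
      g ∈ Subgroup.centralizer (U : Set G) := by
  intro U
  induction U using WellFoundedLT.induction with
  | ind U IH =>
  intro hU hgU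
  haveI : Fact (Nat.Prime 2) := ⟨Nat.prime_two⟩
  set A := Subgroup.zpowers g with hA
  have hAU : A ≤ Subgroup.normalizer (U : Set G) := Subgroup.zpowers_le.mpr hgU
  have hiff : ∀ {V : Subgroup G}, ⁅V, A⁆ = ⊥ ↔ g ∈ Subgroup.centralizer (V : Set G) := by
    intro V
    rw [Subgroup.commutator_comm, Subgroup.commutator_eq_bot_iff_le_centralizer, hA,
      Subgroup.zpowers_le]
  rw [← hiff]
  by_contra hne
  -- proper invariant subgroups are centralized
  have hsub : ∀ V : Subgroup G, V < U → g ∈ Subgroup.normalizer (V : Set G) →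
      g ∈ Subgroup.centralizer (V : Set G) := fun V hV hn => IH V hV (hU.to_le hV.le) hn
  have hcop : (Nat.card A).Coprime (Nat.card U) := by
    obtain ⟨n, hn⟩ := IsPGroup.iff_card.mp hU
    rw [hA, Nat.card_zpowers, hn]
    exact hg.pow_right n
  have hUA : ⁅U, A⁆ = U := by
    by_contra h
    have hle : ⁅U, A⁆ ≤ U := Coprime.commutator_le_left_of_le_normalizer hAU
    refine hne (Coprime.commutator_eq_bot_of_commutator_commutator hAU hcop (hiff.mpr ?_))
    exact hsub _ (lt_of_le_of_ne hle h) ((Coprime.le_normalizer_commutator hAU Subgroup.le_normalizer)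
      (Subgroup.mem_zpowers g))
  haveI : Nontrivial U := (Subgroup.nontrivial_iff_ne_bot U).mpr fun h => hne (by
    rw [h, Subgroup.commutator_bot_left])
  -- the Frattini subgroup
  set F : Subgroup G := (frattini U).map U.subtype with hF
  have hFU : F ≤ U := Subgroup.map_subtype_le _
  have hFlt : F < U := by
    refine lt_of_le_of_ne hFU fun h => ?_
    have h1 : frattini U ≠ ⊤ := by
      intro ht
      have h2 : Subgroup.zpowers (1 : U) ⊔ frattini U = ⊤ := by rw [ht, sup_top_eq]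
      have h3 := frattini_nongenerating h2
      rw [Subgroup.zpowers_one_eq_bot] at h3
      exact absurd h3 bot_ne_top
    apply h1
    apply Subgroup.map_injective U.subtype_injective
    rw [← hF, h, ← MonoidHom.range_eq_map, Subgroup.range_subtype]
  have hsq : ∀ u ∈ U, u * u ∈ F := fun u hu =>
    ⟨⟨u, hu⟩ * ⟨u, hu⟩, Golay.SylowTwo.sq_mem_frattini hU _, rfl⟩
  have hUF : U ≤ Subgroup.normalizer (F : Set G) := by
    intro u hu
    refine Subgroup.mem_normalizer_fintype fun x hx => ?_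
    obtain ⟨y, hy, rfl⟩ := hx
    exact ⟨⟨u, hu⟩ * y * ⟨u, hu⟩⁻¹, (inferInstance : (frattini U).Normal).conj_mem y hy _, rfl⟩
  have hgF : g ∈ Subgroup.normalizer (F : Set G) := by
    refine Subgroup.mem_normalizer_fintype fun x hx => ?_
    obtain ⟨y, hy, rfl⟩ := hx
    let e : U ≃* U :=
      { toFun := fun z => ⟨g * z * g⁻¹, (Subgroup.mem_normalizer_iff.mp hgU _).mp z.2⟩
        invFun := fun z => ⟨g⁻¹ * z * g, by
          have := (Subgroup.mem_normalizer_iff.mp (inv_mem hgU) _).mp z.2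
          rwa [inv_inv] at this⟩
        left_inv := fun z => Subtype.ext (by simp [mul_assoc])
        right_inv := fun z => Subtype.ext (by simp [mul_assoc])
        map_mul' := fun z w => Subtype.ext (by simp [mul_assoc]) }
    refine ⟨e y, ?_, rfl⟩
    have h1 := Subgroup.characteristic_iff_map_le.mp
      (inferInstance : (frattini U).Characteristic) e
    exact h1 (Subgroup.mem_map_of_mem _ hy)
  have hgFc := hsub F hFlt hgF
  have hAFc : ⁅F, A⁆ = ⊥ := hiff.mpr hgFc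
  have hFc : U ≤ Subgroup.centralizer (F : Set G) := by
    have h2 : ⁅⁅U, F⁆, A⁆ = ⊥ := by
      rw [eq_bot_iff, ← hAFc]
      refine Subgroup.commutator_mono ?_ le_rfl
      rw [Subgroup.commutator_comm]
      exact Coprime.commutator_le_left_of_le_normalizer hUF
    have h1 : ⁅⁅F, A⁆, U⁆ = ⊥ := by rw [hAFc, Subgroup.commutator_bot_left]
    have h3 : ⁅⁅A, U⁆, F⁆ = ⊥ := Subgroup.commutator_commutator_eq_bot_of_rotate h2 h1
    rw [Subgroup.commutator_comm A U, hUA] at h3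
    exact Subgroup.commutator_eq_bot_iff_le_centralizer.mp h3
  have hFcomm : ∀ f ∈ F, ∀ u ∈ U, f * u = u * f := fun f hf u hu =>
    Subgroup.mem_centralizer_iff.mp (hFc hu) f hf
  have hgf : ∀ f ∈ F, g * f * g⁻¹ = f := fun f hf => by
    rw [← Subgroup.mem_centralizer_iff.mp hgFc f hf, mul_inv_cancel_right]
  -- commutators of `U`
  have hcF : ∀ u ∈ U, ∀ v ∈ U, u * v * u⁻¹ * v⁻¹ ∈ F := by
    intro u hu v hv
    have e : u * v * u⁻¹ * v⁻¹ = (u * v) * (u * v) * (v⁻¹ * (u⁻¹ * u⁻¹) * v) * (v⁻¹ * v⁻¹) := by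
      group
    rw [e]
    refine mul_mem (mul_mem (hsq _ (mul_mem hu hv)) ?_) (hsq _ (inv_mem hv))
    have h1 := hsq _ (inv_mem hu)
    rw [mul_assoc, hFcomm _ h1 v hv, inv_mul_cancel_left]
    exact h1
  have hc_right : ∀ u ∈ U, ∀ v ∈ U, ∀ w ∈ U,
      u * (v * w) * u⁻¹ * (v * w)⁻¹ = (u * v * u⁻¹ * v⁻¹) * (u * w * u⁻¹ * w⁻¹) := by
    intro u hu v hv w hw
    have h1 := hFcomm _ (hcF u hu w hw) v hv
    calc u * (v * w) * u⁻¹ * (v * w)⁻¹ = u * v * u⁻¹ * ((u * w * u⁻¹ * w⁻¹) * v⁻¹) := by group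
      _ = u * v * u⁻¹ * (v⁻¹ * v * ((u * w * u⁻¹ * w⁻¹) * v⁻¹)) := by rw [inv_mul_cancel, one_mul]
      _ = u * v * u⁻¹ * v⁻¹ * ((v * (u * w * u⁻¹ * w⁻¹)) * v⁻¹) := by group
      _ = _ := by rw [← h1, mul_inv_cancel_right]
  have hc_left : ∀ u ∈ U, ∀ v ∈ U, ∀ w ∈ U,
      (u * v) * w * (u * v)⁻¹ * w⁻¹ = (v * w * v⁻¹ * w⁻¹) * (u * w * u⁻¹ * w⁻¹) := by
    intro u hu v hv w hw
    have h1 := hFcomm _ (hcF v hv w hw) u hu
    calc (u * v) * w * (u * v)⁻¹ * w⁻¹ = (u * (v * w * v⁻¹ * w⁻¹)) * (w * u⁻¹ * w⁻¹) := by group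
      _ = _ := by rw [← h1]; group
  -- an element not centralized
  obtain ⟨a, ha, hag⟩ : ∃ a ∈ U, a * g ≠ g * a := by
    by_contra h
    push Not at h
    exact hne (hiff.mpr (Subgroup.mem_centralizer_iff.mpr h))
  let N : Subgroup G :=
    { carrier := {x | ∃ v ∈ U, ∃ f ∈ F, x = a * v * a⁻¹ * v⁻¹ * (f * f)}
      one_mem' := ⟨1, one_mem U, 1, one_mem F, by group⟩
      mul_mem' := by
        rintro x y ⟨v, hv, f, hf, rfl⟩ ⟨w, hw, k, hk, rfl⟩
        refine ⟨v * w, mul_mem hv hw, f * k, mul_mem hf hk, ?_⟩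
        rw [hc_right a ha v hv w hw]
        have h1 := hFcomm f hf _ (hFU (hcF a ha w hw))
        have h2 : k * f = f * k := hFcomm k hk f (hFU hf)
        have h3 := hFcomm (f * f) (mul_mem hf hf) _ (hFU (hcF a ha w hw))
        calc a * v * a⁻¹ * v⁻¹ * (f * f) * (a * w * a⁻¹ * w⁻¹ * (k * k))
            = a * v * a⁻¹ * v⁻¹ * ((f * f) * (a * w * a⁻¹ * w⁻¹)) * (k * k) := by group
          _ = a * v * a⁻¹ * v⁻¹ * ((a * w * a⁻¹ * w⁻¹) * (f * f)) * (k * k) := by rw [h3]
          _ = a * v * a⁻¹ * v⁻¹ * (a * w * a⁻¹ * w⁻¹) * (f * (f * k) * k) := by group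
          _ = a * v * a⁻¹ * v⁻¹ * (a * w * a⁻¹ * w⁻¹) * (f * (k * f) * k) := by rw [h2]
          _ = _ := by group
      inv_mem' := by
        rintro x ⟨v, hv, f, hf, rfl⟩
        refine ⟨v⁻¹, inv_mem hv, f⁻¹, inv_mem hf, ?_⟩
        have h1 := hc_right a ha v hv v⁻¹ (inv_mem hv)
        rw [mul_inv_cancel, mul_one, mul_inv_cancel, one_mul, inv_one] at h1
        rw [mul_inv_rev, ← inv_eq_of_mul_eq_one_right h1.symm,
          hFcomm _ (inv_mem (hcF a ha v hv)) _ (mul_mem (inv_mem (hFU hf)) (inv_mem (hFU hf)))]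
        group }
  have hNF : ∀ x ∈ N, x ∈ F := by
    rintro x ⟨v, hv, f, hf, rfl⟩
    exact mul_mem (hcF a ha v hv) (mul_mem hf hf)
  have haN : a * a ∉ N := by
    rintro ⟨v, hv, f, hf, he⟩
    set c := a * v * a⁻¹ * v⁻¹ with hc'
    have hcf := hcF a ha v hv
    set u := a * f⁻¹ with hu
    have hfa := hFcomm f⁻¹ (inv_mem hf) a ha
    have huu : u * u = c := by
      calc u * u = a * (f⁻¹ * a) * f⁻¹ := by rw [hu]; group
        _ = a * (a * f⁻¹) * f⁻¹ := by rw [hfa]
        _ = a * a * (f⁻¹ * f⁻¹) := by group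
        _ = c := by rw [he]; group
    have hvu : v * u * v⁻¹ = c⁻¹ * u := by
      have h1 : v * f⁻¹ * v⁻¹ = f⁻¹ := by
        rw [← hFcomm f⁻¹ (inv_mem hf) v hv, mul_inv_cancel_right]
      calc v * u * v⁻¹ = (v * a * v⁻¹) * (v * f⁻¹ * v⁻¹) := by rw [hu]; group
        _ = (v * a * v⁻¹) * f⁻¹ := by rw [h1]
        _ = c⁻¹ * u := by rw [hu, hc']; group
    have huU : u ∈ U := mul_mem ha (inv_mem (hFU hf))
    have hz := hc U hU u huU v hv (by rw [hvu, ← huu]; group)
    apply hag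
    have h2 := Subgroup.mem_center_iff.mp hz g
    have h3 : g * f = f * g := by
      have := hgf f hf
      calc g * f = g * f * g⁻¹ * g := by group
        _ = f * g := by rw [this]
    calc a * g = u * (f * g) := by rw [hu]; group
      _ = u * (g * f) := by rw [h3]
      _ = u * g * f := by group
      _ = g * u * f := by rw [h2]
      _ = g * a := by rw [hu]; group
  let R : Subgroup G :=
    { carrier := {u | u ∈ U ∧ ∀ v ∈ U, u * v * u⁻¹ * v⁻¹ ∈ N}
      one_mem' := ⟨one_mem U, fun v _ => by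
        rw [inv_one, one_mul, mul_one, mul_inv_cancel]; exact one_mem N⟩
      mul_mem' := fun {x y} hx hy => ⟨mul_mem hx.1 hy.1, fun v hv => by
        rw [hc_left x hx.1 y hy.1 v hv]; exact mul_mem (hy.2 v hv) (hx.2 v hv)⟩
      inv_mem' := fun {x} hx => ⟨inv_mem hx.1, fun v hv => by
        have h1 := hc_left x hx.1 x⁻¹ (inv_mem hx.1) v hv
        rw [mul_inv_cancel, one_mul, inv_one, mul_one, mul_inv_cancel] at h1
        rw [eq_inv_of_mul_eq_one_left h1.symm]
        exact inv_mem (hx.2 v hv)⟩ }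
  have haR : a ∈ R := ⟨ha, fun v hv => ⟨v, hv, 1, one_mem F, by group⟩⟩
  have hgR : g ∈ Subgroup.normalizer (R : Set G) := by
    refine Subgroup.mem_normalizer_fintype fun u hu => ?_
    refine ⟨(Subgroup.mem_normalizer_iff.mp hgU u).mp hu.1, fun v hv => ?_⟩
    have hv' : g⁻¹ * v * g ∈ U := (Subgroup.mem_normalizer_iff''.mp hgU v).mp hv
    rw [show g * u * g⁻¹ * v * (g * u * g⁻¹)⁻¹ * v⁻¹
      = g * (u * (g⁻¹ * v * g) * u⁻¹ * (g⁻¹ * v * g)⁻¹) * g⁻¹ by group,
      hgf _ (hcF u hu.1 _ hv')]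
    exact hu.2 _ hv'
  have hRU : R = U := by
    by_contra h
    exact hag (Subgroup.mem_centralizer_iff.mp
      (hsub R (lt_of_le_of_ne (fun u hu => hu.1) h) hgR) a haR)
  have hcN : ∀ u ∈ U, ∀ v ∈ U, u * v * u⁻¹ * v⁻¹ ∈ N := fun u hu v hv =>
    ((hRU.ge hu) : u ∈ R).2 v hv
  have hsqmul : ∀ u ∈ U, ∀ v ∈ U,
      (u * v) * (u * v) = (v * u * v⁻¹ * u⁻¹) * ((u * u) * (v * v)) := by
    intro u hu v hv
    have h1 := hFcomm _ (hcF v hv u hu) u hu
    calc (u * v) * (u * v) = u * (v * u * v⁻¹ * u⁻¹) * u * v * v := by group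
      _ = (v * u * v⁻¹ * u⁻¹) * u * u * v * v := by rw [h1]
      _ = _ := by group
  let K : Subgroup G :=
    { carrier := {u | u ∈ U ∧ u * u ∈ N}
      one_mem' := ⟨one_mem U, by rw [one_mul]; exact one_mem N⟩
      mul_mem' := fun {x y} hx hy => ⟨mul_mem hx.1 hy.1, by
        rw [hsqmul x hx.1 y hy.1]
        exact mul_mem (hcN y hy.1 x hx.1) (mul_mem hx.2 hy.2)⟩
      inv_mem' := fun {x} hx => ⟨inv_mem hx.1, by rw [← mul_inv_rev]; exact inv_mem hx.2⟩ }
  have hAF : ∀ b ∈ A, ∀ f ∈ F, b * f * b⁻¹ = f := fun b hb f hf => by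
    rw [← Subgroup.mem_centralizer_iff.mp ((Subgroup.zpowers_le.mpr hgFc) hb) f hf,
      mul_inv_cancel_right]
  have hUK : U ≤ K := by
    conv_lhs => rw [← hUA]
    refine Subgroup.commutator_le.mpr fun u hu b hb => ?_
    have hb' : b * u⁻¹ * b⁻¹ ∈ U := (Subgroup.mem_normalizer_iff.mp (hAU hb) _).mp (inv_mem hu)
    rw [commutatorElement_def, show u * b * u⁻¹ * b⁻¹ = u * (b * u⁻¹ * b⁻¹) by group]
    refine ⟨mul_mem hu hb', ?_⟩
    rw [hsqmul u hu _ hb', show b * u⁻¹ * b⁻¹ * (b * u⁻¹ * b⁻¹) = b * (u⁻¹ * u⁻¹) * b⁻¹ by group,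
      hAF b hb _ (hsq _ (inv_mem hu)), show u * u * (u⁻¹ * u⁻¹) = 1 by group, mul_one]
    exact hcN _ hb' u hu
  exact haN (hUK ha).2

/-- Real elements of `2`-subgroups central: normal `2`-complement. -/
theorem hasNormalPComplement_of_real_central
    (hc : ∀ U : Subgroup G, IsPGroup 2 U → ∀ u ∈ U, ∀ v ∈ U, v * u * v⁻¹ = u⁻¹ →
      u ∈ Subgroup.center G) : Cfsg.HasNormalPComplement 2 G :=
  haveI : Fact (Nat.Prime 2) := ⟨Nat.prime_two⟩
  Transfer.hasNormalPComplement_of_pAutomizers fun U hU g hg hgc =>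
    centralizes_of_real_central hc g hgc U hU hg

end CfsgLib.RealTwoLocal
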